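import Mathlib

/-! Length of localizations at maximal ideals. -/

namespace Groth.Agent.LenLib

universe u

variable {R : Type u} [CommRing R] (m : Ideal R) [m.IsMaximal]

/-- The length of the localization at `m`. -/
noncomputable abbrev locLength (M : Type u) [AddCommGroup M] [Module R M] : ℕ∞ :=
  Module.length (Localization.AtPrime m) (LocalizedModule m.primeCompl M)

theorem locLength_of_subsingleton (M : Type u) [AddCommGroup M] [Module R M] [Subsingleton M] : locLength m M = 0 := by
  haveI : Subsingleton (LocalizedModule m.primeCompl M) := (LocalizedModule.subsingleton_iff (S := m.primeCompl)).mpr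
    fun x => ⟨1, m.primeCompl.one_mem, Subsingleton.elim _ _⟩
  exact Module.length_eq_zero

theorem locLength_exact {M N P : Type u} [AddCommGroup M] [Module R M] [AddCommGroup N] [Module R N] [AddCommGroup P]
    [Module R P] (f : M →ₗ[R] N) (g : N →ₗ[R] P) (hf : Function.Injective f) (hg : Function.Surjective g)
    (hfg : Function.Exact f g) : locLength m N = locLength m M + locLength m P :=
  Module.length_eq_add_of_exact (LocalizedModule.map m.primeCompl f) (LocalizedModule.map m.primeCompl g)
    (LocalizedModule.map_injective _ f hf) (LocalizedModule.map_surjective _ g hg) (LocalizedModule.map_exact _ f g hfg)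

theorem locLength_congr {M N : Type u} [AddCommGroup M] [Module R M] [AddCommGroup N] [Module R N] (e : M ≃ₗ[R] N) :
    locLength m M = locLength m N := by
  have h := locLength_exact m e.toLinearMap (0 : N →ₗ[R] PUnit.{u+1}) e.injective (fun _ => ⟨0, Subsingleton.elim _ _⟩)
    (fun y => ⟨fun _ => ⟨e.symm y, e.apply_symm_apply y⟩, fun _ => rfl⟩)
  rw [h, locLength_of_subsingleton m PUnit.{u+1}, add_zero]

theorem locLength_quot_of_ne (I : Ideal R) [I.IsMaximal] (h : I ≠ m) : locLength m (R ⧸ I) = 0 := by
  obtain ⟨r, hrI, hrm⟩ := SetLike.not_le_iff_exists.mp fun hle => h (Ideal.IsMaximal.eq_of_le ‹_› (Ideal.IsPrime.ne_top inferInstance) hle)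
  haveI : Subsingleton (LocalizedModule m.primeCompl (R ⧸ I)) := (LocalizedModule.subsingleton_iff (S := m.primeCompl)).mpr
    fun x => ⟨r, hrm, by
      obtain ⟨x, rfl⟩ := Ideal.Quotient.mk_surjective x
      exact Ideal.Quotient.eq_zero_iff_mem.mpr (I.mul_mem_right x hrI)⟩
  exact Module.length_eq_zero

theorem locLength_quot_self : locLength m (R ⧸ m) = 1 := by
  let f := LocalizedModule.mkLinearMap m.primeCompl (R ⧸ m)
  have hne : f 1 ≠ 0 := fun h => by
    obtain ⟨c, hc⟩ := (IsLocalizedModule.eq_zero_iff m.primeCompl f).mp h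
    exact c.2 (Ideal.Quotient.eq_zero_iff_mem.mp (by rw [Submonoid.smul_def, Algebra.smul_def, mul_one] at hc; exact hc))
  haveI : Nontrivial (LocalizedModule m.primeCompl (R ⧸ m)) := ⟨⟨_, _, hne⟩⟩
  haveI : IsSimpleModule (Localization.AtPrime m) (LocalizedModule m.primeCompl (R ⧸ m)) := by
    rw [isSimpleModule_iff_toSpanSingleton_surjective]
    refine ⟨inferInstance, fun x hx y => ?_⟩
    have hgen : ∀ z, ∃ b : Localization.AtPrime m, b • f 1 = z := fun z => by
      obtain ⟨⟨a, s⟩, rfl⟩ := IsLocalizedModule.mk'_surjective m.primeCompl f z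
      obtain ⟨a, rfl⟩ := Ideal.Quotient.mk_surjective a
      refine ⟨IsLocalization.mk' _ a s, ?_⟩
      show IsLocalization.mk' (Localization.AtPrime m) a s • f 1 = IsLocalizedModule.mk' f (Ideal.Quotient.mk m a) s
      rw [← IsLocalizedModule.mk'_one m.primeCompl f, IsLocalizedModule.mk'_smul_mk', mul_one, Algebra.smul_def, mul_one]
      rfl
    obtain ⟨b, rfl⟩ := hgen x
    obtain ⟨c, rfl⟩ := hgen y
    by_cases hb : IsUnit b
    · obtain ⟨u, rfl⟩ := hb
      refine ⟨c * ((u⁻¹ : (Localization.AtPrime m)ˣ) : Localization.AtPrime m), ?_⟩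
      show (c * ((u⁻¹ : (Localization.AtPrime m)ˣ) : Localization.AtPrime m)) • ((u : Localization.AtPrime m) • f 1) = c • f 1
      rw [smul_smul, mul_assoc, Units.inv_mul, mul_one]
    · exfalso
      refine hx ?_
      obtain ⟨a, s, rfl⟩ := IsLocalization.exists_mk'_eq m.primeCompl b
      have ha : a ∈ m := by
        by_contra ha
        exact hb ((IsLocalization.AtPrime.isUnit_mk'_iff (Localization.AtPrime m) m a s).mpr ha)
      rw [← IsLocalizedModule.mk'_one m.primeCompl f, IsLocalizedModule.mk'_smul_mk', mul_one, Algebra.smul_def, mul_one,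
        IsLocalizedModule.mk'_eq_zero']
      exact ⟨1, by rw [one_smul]; exact Ideal.Quotient.eq_zero_iff_mem.mpr ha⟩
  exact Module.length_eq_one _ _

theorem locLength_quot (I : Ideal R) [I.IsMaximal] [Decidable (I = m)] : locLength m (R ⧸ I) = if I = m then 1 else 0 := by
  split_ifs with h
  · subst h; exact locLength_quot_self I
  · exact locLength_quot_of_ne m I h

end Groth.Agent.LenLib
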